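import Groth.Agent.ParaFLiftLib.Hyper
import Groth.Agent.ParaFLib.Local
import Groth.Agent.ParaFLib.Punctured
import Groth.Agent.FSParaLib.Main
import Groth.Agent.IdealStalkLib.Cartier
import Groth.Agent.GenericDepthLib.Loci

/-!
# Parafactorial closed fibres of flat local homomorphisms
-/

set_option autoImplicit false
set_option linter.style.haveILetI false
set_option backward.isDefEq.respectTransparency false

universe u

open IsLocalRing CategoryTheory AlgebraicGeometry

noncomputable section

namespace Groth.Agent.ParaFlatLib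

variable (A B : Type u) [CommRing A] [CommRing B] [Algebra A B]

/-- The graded pieces along the closed fibre of a flat algebra are free. -/
theorem free_graded [IsLocalRing A] [IsNoetherianRing A] [Module.Flat A B] (n : ℕ) :
    Module.Free (B ⧸ (maximalIdeal A).map (algebraMap A B))
      (↥(((maximalIdeal A).map (algebraMap A B)) ^ n) ⧸ ((maximalIdeal A).map (algebraMap A B) •
        (⊤ : Submodule B ↥(((maximalIdeal A).map (algebraMap A B)) ^ n)))) := by
  classical
  have hex : ∃ d, ∃ a : Fin d → A, Ideal.span (Set.range a) = maximalIdeal A ^ n :=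
    Submodule.fg_iff_exists_fin_generating_family.1 (IsNoetherian.noetherian (maximalIdeal A ^ n))
  obtain ⟨d, ⟨a, ha⟩, hmin⟩ : ∃ d, (∃ a : Fin d → A, Ideal.span (Set.range a) = maximalIdeal A ^ n) ∧
      ∀ m, m < d → ¬ ∃ a : Fin m → A, Ideal.span (Set.range a) = maximalIdeal A ^ n :=
    ⟨Nat.find hex, Nat.find_spec hex, fun m hm => Nat.find_min hex hm⟩
  clear hex
  -- relations of minimal generators lie in the maximal ideal
  have hrel : ∀ r : Fin d → A, (∑ i, r i * a i) ∈ maximalIdeal A ^ (n + 1) → ∀ i, r i ∈ maximalIdeal A := by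
    intro r hr i
    rw [pow_succ', ← ha] at hr
    obtain ⟨q, hq, hqe⟩ : ∃ q : Fin d → A, (∀ i, q i ∈ maximalIdeal A) ∧ ∑ i, q i * a i = ∑ i, r i * a i := by
      have := (Submodule.mem_ideal_smul_span_iff_exists_sum (maximalIdeal A) a _).1 hr
      obtain ⟨q, hq, hqe⟩ := this
      exact ⟨q, hq, by rw [← hqe, Finsupp.sum_fintype]; · rfl
                       · simp⟩
    by_contra hi
    have hu : IsUnit (r i - q i) := by
      by_contra h
      exact hi (by simpa using Ideal.add_mem _ ((IsLocalRing.mem_maximalIdeal _).2 h) (hq i))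
    have h0 : ∑ j, (r j - q j) * a j = 0 := by simp [sub_mul, hqe]
    obtain ⟨e, he⟩ : ∃ e, d = e + 1 := ⟨d - 1, by have := i.2; omega⟩
    let f : Fin e → Fin d := fun j => finCongr he.symm ((finCongr he i).succAbove j)
    refine hmin e (by omega) ⟨a ∘ f, le_antisymm ?_ ?_⟩
    · rw [← ha]; exact Ideal.span_mono (Set.range_comp_subset_range f a)
    rw [← ha, Ideal.span_le]
    rintro _ ⟨j, rfl⟩
    have hmem : ∀ j, j ≠ i → a j ∈ Ideal.span (Set.range (a ∘ f)) := fun j hj => by
      obtain ⟨l, hl⟩ := Fin.exists_succAbove_eq (x := finCongr he j) (y := finCongr he i) fun h => hj ((finCongr he).injective h)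
      exact Ideal.subset_span ⟨l, congrArg a (by simp only [f, hl]; simp)⟩
    rcases eq_or_ne j i with rfl | hj
    · rw [Fintype.sum_eq_add_sum_compl j] at h0
      refine (Ideal.unit_mul_mem_iff_mem _ hu).1 ?_
      rw [eq_neg_of_add_eq_zero_left h0]
      exact neg_mem (sum_mem fun k hk => Ideal.mul_mem_left _ _ (hmem k (by simpa using hk)))
    · exact hmem j hj
  let J := (maximalIdeal A).map (algebraMap A B)
  have hJn : ∀ k : ℕ, J ^ k = (maximalIdeal A ^ k).map (algebraMap A B) := fun k => (Ideal.map_pow _ _ k).symm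
  let M := ↥(J ^ n) ⧸ (J • (⊤ : Submodule B ↥(J ^ n)))
  have hamem : ∀ i, algebraMap A B (a i) ∈ J ^ n := fun i => by
    rw [hJn]; exact Ideal.mem_map_of_mem _ (ha ▸ Ideal.subset_span ⟨i, rfl⟩)
  let v : Fin d → ↥(J ^ n) := fun i => ⟨_, hamem i⟩
  let w : Fin d → M := fun i => Submodule.Quotient.mk (v i)
  refine Module.Free.of_basis (Module.Basis.mk (R := B ⧸ J) (v := w) ?_ ?_)
  · rw [Fintype.linearIndependent_iff]
    intro g hg i
    choose b hb using fun i => Ideal.Quotient.mk_surjective (g i)
    have h1 : (∑ i, b i • v i) ∈ (J • ⊤ : Submodule B ↥(J ^ n)) := by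
      rw [← Submodule.Quotient.mk_eq_zero, ← hg, ← Submodule.mkQ_apply, map_sum]
      refine Finset.sum_congr rfl fun i _ => ?_
      rw [← hb i]
      rfl
    have h2 : ∑ i, b i * algebraMap A B (a i) ∈ J ^ (n + 1) := by
      have h3 : (J ^ n).subtype (∑ i, b i • v i) ∈ Submodule.map (J ^ n).subtype (J • ⊤) :=
        Submodule.mem_map_of_mem h1
      rw [Submodule.map_smul'', Submodule.map_top, Submodule.range_subtype, smul_eq_mul, map_sum] at h3
      rw [pow_succ']
      simpa [v] using h3
    rw [hJn] at h2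
    obtain ⟨d', e, he⟩ := Submodule.fg_iff_exists_fin_generating_family.1
      (IsNoetherian.noetherian (maximalIdeal A ^ (n + 1)))
    rw [← he, Ideal.submodule_span_eq, Ideal.map_span, ← Set.range_comp, Ideal.mem_span_range_iff_exists_fun] at h2
    obtain ⟨c, hc⟩ := h2
    have h4 : ∑ k : Fin d ⊕ Fin d', Sum.elim a e k • Sum.elim b (fun j => - c j) k = 0 := by
      simp [Fintype.sum_sum_type, Algebra.smul_def, mul_comm, ← hc]
    obtain ⟨k, α, y, hy, hα⟩ := Module.Flat.isTrivialRelation_of_sum_smul_eq_zero (R := A) (M := B) (f := Sum.elim a e)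
      (x := Sum.elim b fun j => - c j) h4
    have hmem : ∀ l, α (Sum.inl i) l ∈ maximalIdeal A := fun l => by
      refine hrel (fun i => α (Sum.inl i) l) ?_ i
      have h5 := hα l
      simp only [Fintype.sum_sum_type, Sum.elim_inl, Sum.elim_inr] at h5
      have h6 : ∑ j, α (Sum.inl j) l * a j = - ∑ j, e j * α (Sum.inr j) l := by
        rw [← eq_neg_of_add_eq_zero_left h5]
        exact Finset.sum_congr rfl fun j _ => mul_comm _ _
      rw [h6]
      exact neg_mem (sum_mem fun j _ => Ideal.mul_mem_right _ _ (he ▸ Ideal.subset_span ⟨j, rfl⟩))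
    rw [← hb i, Ideal.Quotient.eq_zero_iff_mem]
    have h7 : b i = ∑ l, α (Sum.inl i) l • y l := hy (Sum.inl i)
    rw [h7]
    exact sum_mem fun l _ => by
      rw [Algebra.smul_def]; exact Ideal.mul_mem_right _ _ (Ideal.mem_map_of_mem _ (hmem l))
  · intro z _
    obtain ⟨⟨x, hx⟩, rfl⟩ := Submodule.Quotient.mk_surjective _ z
    rw [hJn, ← ha, Ideal.map_span, ← Set.range_comp, Ideal.mem_span_range_iff_exists_fun] at hx
    obtain ⟨c, hc⟩ := hx
    rw [Submodule.mem_span_range_iff_exists_fun]
    refine ⟨fun i => Ideal.Quotient.mk J (c i), ?_⟩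
    have : (Submodule.Quotient.mk (∑ i, c i • v i) : M) = ∑ i, Ideal.Quotient.mk J (c i) • w i := by
      rw [← Submodule.mkQ_apply, map_sum]
      rfl
    rw [← this]
    exact congrArg _ (Subtype.ext (by simpa [v] using hc))

variable [IsLocalRing A] [IsNoetherianRing A] [IsLocalRing B] [IsNoetherianRing B] [IsLocalHom (algebraMap A B)]
  [Module.Flat A B]

/-- A flat local algebra with parafactorial closed fibre of depth at least three is parafactorial. -/
theorem isParafactorialLocalRing_of_closedFibre (C : Type u) [CommRing C] [IsLocalRing C] [IsNoetherianRing C]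
    (π : B →+* C) (hπ : Function.Surjective π) (hker : RingHom.ker π = (maximalIdeal A).map (algebraMap A B))
    (hd : (3 : ℕ∞) ≤ LocCoh.depth C C) (hC : ParaF.IsParafactorialLocalRing C) :
    ParaF.IsParafactorialLocalRing B := by
  let J := (maximalIdeal A).map (algebraMap A B)
  have hJ : J ≠ ⊤ := fun h => (maximalIdeal.isMaximal B).ne_top
    (top_le_iff.1 (h ▸ IsLocalRing.map_maximalIdeal_le (algebraMap A B)))
  haveI : Nontrivial (B ⧸ J) := Ideal.Quotient.nontrivial_iff.2 hJ
  haveI : IsLocalRing (B ⧸ J) := IsLocalRing.of_surjective' (Ideal.Quotient.mk J) Ideal.Quotient.mk_surjective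
  let e : (B ⧸ J) ≃+* C := (Ideal.quotEquivOfEq hker.symm).trans (RingHom.quotientKerEquivOfSurjective hπ)
  have hd' : (3 : ℕ∞) ≤ LocCoh.depth (B ⧸ J) (B ⧸ J) := (FSParaLib.depth_congr_ring e).symm ▸ hd
  have h3 : (2 : ℕ∞) ≤ LocCoh.depth B B := by
    have h2 := FlatDepth.depth_tensor (A := A) (B := B) (N := B) A
    rw [FlatDepth.depth_congr (TensorProduct.AlgebraTensorModule.rid A B B)] at h2
    have hJ' : (J • ⊤ : Submodule B B) = J := by rw [smul_eq_mul, Ideal.mul_top]
    rw [h2, FlatDepth.depth_congr (Submodule.quotEquivOfEq _ _ hJ'), GenericDepthLib.depth_quot_eq]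
    exact le_trans (le_trans (by norm_num) hd') le_add_self
  refine (ParaFLib.isParafactorialLocalRing_iff B).2 ⟨ParaFLib.bijective_res_punctured_of_depth B h3, ?_⟩
  intro L hL
  refine ParaFLiftLib.picPullbackInjective_quotient J (fun n => free_graded A B n) hJ hd' L hL ?_
  have hQ : ParaF.IsParafactorialLocalRing (B ⧸ J) := FSParaLib.parafactorial_congr e hC
  have htriv := ((ParaFLib.isParafactorialLocalRing_iff (B ⧸ J)).1 hQ).2
  have hpre : (Spec.map (CommRingCat.ofHom (Ideal.Quotient.mk J))) ⁻¹ᵁ FEt.puncturedSpec B = FEt.puncturedSpec (B ⧸ J) := by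
    ext q
    show PrimeSpectrum.comap (Ideal.Quotient.mk J) q ∈ FEt.puncturedSpec B ↔ _
    refine (ParaFLiftLib.mem_punctured_iff _).trans (Iff.trans ?_ (ParaFLiftLib.mem_punctured_iff (B := B ⧸ J) q).symm)
    rw [PrimeSpectrum.comap_asIdeal]
    haveI : IsLocalHom (Ideal.Quotient.mk J) := IsLocalHom.of_surjective _ Ideal.Quotient.mk_surjective
    constructor
    · intro h e
      exact h (e ▸ IsLocalRing.maximalIdeal_comap (Ideal.Quotient.mk J))
    · intro h e
      refine h ?_
      rw [← Ideal.map_comap_of_surjective _ Ideal.Quotient.mk_surjective q.asIdeal, e,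
        ← IsLocalRing.maximalIdeal_comap (Ideal.Quotient.mk J), Ideal.map_comap_of_surjective _ Ideal.Quotient.mk_surjective]
  exact ParaFLib.picTrivial_of_iso (Scheme.isoOfEq _ hpre) htriv _ (AmpleLib.isInvertible_pullback _ hL)

end Groth.Agent.ParaFlatLib
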