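import Groth.Agent.ParaFlatLib.Alg
import Groth.Agent.CILib.RegularImmersionFibre
import Groth.Agent.LeffCoreLib.Stalk
import Groth.Agent.FlatDepth.Basic

/-!
# Stalks over the closed fibre, for a relative Cartier divisor
-/

set_option autoImplicit false
set_option linter.style.haveILetI false
set_option backward.isDefEq.respectTransparency false

universe u

open IsLocalRing CategoryTheory AlgebraicGeometry

noncomputable section

namespace Groth.Agent.ParaFlatLib

/-- The fibre of a hypersurface that is flat over the base. -/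
theorem le_depth_of_fibre_quot {A B C : Type u} [CommRing A] [CommRing B] [CommRing C] [IsLocalRing A]
    [IsLocalRing B] [IsLocalRing C] [IsNoetherianRing B] [IsNoetherianRing C] [Algebra A B]
    [IsLocalHom (algebraMap A B)] {u : B} [Module.Flat A (B ⧸ Ideal.span {u})] (hu : IsSMulRegular B u)
    (hum : u ∈ maximalIdeal B) (χ : B →+* C) (hχ : Function.Surjective χ)
    (hker : RingHom.ker χ = Ideal.span {u} ⊔ (maximalIdeal A).map (algebraMap A B))
    {F : Type u} [CommRing F] [IsLocalRing F] [IsNoetherianRing F] (e : (B ⧸ (maximalIdeal A).map (algebraMap A B)) ≃+* F)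
    (r : ℕ) (hd : ((r + 1 : ℕ) : ℕ∞) ≤ LocCoh.depth F F) : (r : ℕ∞) ≤ LocCoh.depth C C := by
  let J := (maximalIdeal A).map (algebraMap A B)
  have hJ : J ≤ maximalIdeal B := IsLocalRing.map_maximalIdeal_le (algebraMap A B)
  let R := B ⧸ J
  haveI : Nontrivial R := Ideal.Quotient.nontrivial_iff.2 fun h =>
    (maximalIdeal.isMaximal B).ne_top (top_le_iff.1 (h ▸ hJ))
  haveI : IsLocalRing R := IsLocalRing.of_surjective' (Ideal.Quotient.mk J) Ideal.Quotient.mk_surjective
  haveI : IsLocalHom (Ideal.Quotient.mk J) := IsLocalHom.of_surjective _ Ideal.Quotient.mk_surjective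
  have hdR : ((r + 1 : ℕ) : ℕ∞) ≤ LocCoh.depth R R := (FSParaLib.depth_congr_ring e).symm ▸ hd
  let v : R := Ideal.Quotient.mk J u
  have hv : v ∈ maximalIdeal R := map_nonunit (Ideal.Quotient.mk J) u hum
  have hreg : IsSMulRegular R v := by
    rw [isSMulRegular_iff_right_eq_zero_of_smul]
    intro z hz
    obtain ⟨z, rfl⟩ := Ideal.Quotient.mk_surjective z
    rw [smul_eq_mul, ← map_mul, Ideal.Quotient.eq_zero_iff_mem] at hz
    have h1 := IdealStalkLib.mem_map_mul_of_flat_quotient (Ideal.span {u}) (maximalIdeal A)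
      (Ideal.mem_span_singleton.2 (dvd_mul_right u z)) hz
    obtain ⟨w, hw, hwz⟩ := Ideal.mem_mul_span_singleton.1 h1
    rw [Ideal.Quotient.eq_zero_iff_mem]
    have : w = z := hu (show u * w = u * z by rw [mul_comm, hwz])
    exact this ▸ hw
  let e₀ : QuotSMulTop v R ≃ₗ[R] R ⧸ Ideal.span {v} :=
    Submodule.quotEquivOfEq _ _ (by rw [← Submodule.ideal_span_singleton_smul, smul_eq_mul, Ideal.mul_top])
  haveI : Nontrivial (R ⧸ Ideal.span {v}) := Ideal.Quotient.nontrivial_iff.2 fun h =>
    (maximalIdeal.isMaximal R).ne_top (top_le_iff.1 (h ▸ (Ideal.span_singleton_le_iff_mem _).2 hv))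
  haveI : IsLocalRing (R ⧸ Ideal.span {v}) :=
    IsLocalRing.of_surjective' (Ideal.Quotient.mk _) Ideal.Quotient.mk_surjective
  have h2 := FlatDepth.depth_quotSMulTop (M := R) hv hreg
  rw [FlatDepth.depth_congr e₀, GenericDepthLib.depth_quot_eq] at h2
  have h3 : (r : ℕ∞) ≤ LocCoh.depth (R ⧸ Ideal.span {v}) (R ⧸ Ideal.span {v}) := by
    rw [← h2, Nat.cast_add, Nat.cast_one] at hdR
    exact WithTop.le_of_add_le_add_right (by simp) hdR
  let φ : R →+* C := Ideal.Quotient.lift J χ fun a ha => RingHom.mem_ker.1 (hker.symm ▸ Ideal.mem_sup_right ha)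
  have hφ : Function.Surjective φ := Ideal.Quotient.lift_surjective_of_surjective _ _ hχ
  have hφk : RingHom.ker φ = Ideal.span {v} := by
    rw [Ideal.ker_quotient_lift, hker, Ideal.map_sup, Ideal.map_quotient_self, sup_bot_eq, Ideal.map_span,
      Set.image_singleton]
  exact (FSParaLib.depth_congr_ring ((Ideal.quotEquivOfEq hφk.symm).trans
    (RingHom.quotientKerEquivOfSurjective hφ))) ▸ h3

variable {X S : Scheme.{u}} (f : X ⟶ S) [IsLocallyNoetherian X] [IsLocallyNoetherian S]

omit [IsLocallyNoetherian S] in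
theorem isNoetherianRing_fiberStalk (x : X) : IsNoetherianRing (CInt.fiberStalk f x) := by
  obtain ⟨e⟩ := CILib.nonempty_fiberStalk_quot_equiv f x
  exact isNoetherianRing_of_ringEquiv _ e

/-- Parafactorial local rings from parafactorial fibres. -/
theorem isParafactorialLocalRing_stalk [Flat f] (x : X)
    (hd : (3 : ℕ∞) ≤ LocCoh.depth (CInt.fiberStalk f x) (CInt.fiberStalk f x))
    (hC : ParaF.IsParafactorialLocalRing (CInt.fiberStalk f x)) :
    ParaF.IsParafactorialLocalRing (X.presheaf.stalk x) := by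
  obtain ⟨e⟩ := CILib.nonempty_fiberStalk_quot_equiv f x
  haveI := isNoetherianRing_fiberStalk f x
  letI : Algebra (S.presheaf.stalk (f x)) (X.presheaf.stalk x) := (f.stalkMap x).hom.toAlgebra
  haveI : IsLocalHom (algebraMap (S.presheaf.stalk (f x)) (X.presheaf.stalk x)) :=
    inferInstanceAs (IsLocalHom (f.stalkMap x).hom)
  haveI : Module.Flat (S.presheaf.stalk (f x)) (X.presheaf.stalk x) := Flat.stalkMap f x
  exact isParafactorialLocalRing_of_closedFibre (S.presheaf.stalk (f x)) (X.presheaf.stalk x) (CInt.fiberStalk f x)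
    (e.toRingHom.comp (Ideal.Quotient.mk _)) (e.surjective.comp Ideal.Quotient.mk_surjective)
    (by rw [RingHom.ker_equiv_comp, Ideal.mk_ker]; rfl) hd hC

omit [IsLocallyNoetherian S] in
/-- The fibres of a relative divisor lose at most one in depth. -/
theorem le_depth_fiberStalk_divisor {I : X.IdealSheafData} (hI : PicF.IsInvertible (ClSub.idealMod I))
    [Flat (I.subschemeι ≫ f)] [IsLocallyNoetherian I.subscheme] (y : I.subscheme) (r : ℕ)
    (hd : ((r + 1 : ℕ) : ℕ∞) ≤ LocCoh.depth (CInt.fiberStalk f (I.subschemeι y)) (CInt.fiberStalk f (I.subschemeι y))) :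
    (r : ℕ∞) ≤ LocCoh.depth (CInt.fiberStalk (I.subschemeι ≫ f) y) (CInt.fiberStalk (I.subschemeι ≫ f) y) := by
  let j := I.subschemeι
  let x := j y
  obtain ⟨v, u, hu, hv, hvu⟩ := LeffCore.exists_gen hI x
  have hreg : IsSMulRegular (X.presheaf.stalk x) u := by
    rw [isSMulRegular_iff_right_eq_zero_of_smul]
    intro r hr
    have hinj : Function.Injective (PullbackMod.stalkLin (ClSub.idealModι I) x) :=
      (PullbackMod.mono_iff_stalk (ClSub.idealModι I)).1 (by unfold ClSub.idealModι; infer_instance) x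
    have h1 : r • v = 0 := hinj (by rw [map_smul, hvu, smul_smul, mul_comm, ← smul_eq_mul, hr, zero_smul, map_zero])
    exact hv.1 (h1.trans (zero_smul _ v).symm)
  have hker : RingHom.ker (j.stalkMap y).hom = Ideal.span {u} :=
    (IdealStalkLib.ker_stalkMap_subschemeι I y).trans hu
  obtain ⟨e⟩ := CILib.nonempty_fiberStalk_quot_equiv f x
  obtain ⟨e'⟩ := CILib.nonempty_fiberStalk_quot_equiv (j ≫ f) y
  haveI := isNoetherianRing_fiberStalk f x
  haveI := isNoetherianRing_fiberStalk (j ≫ f) y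
  letI : Algebra (S.presheaf.stalk (f x)) (X.presheaf.stalk x) := (f.stalkMap x).hom.toAlgebra
  haveI : IsLocalHom (algebraMap (S.presheaf.stalk (f x)) (X.presheaf.stalk x)) :=
    inferInstanceAs (IsLocalHom (f.stalkMap x).hom)
  letI : Algebra (S.presheaf.stalk (f x)) (I.subscheme.presheaf.stalk y) := ((j ≫ f).stalkMap y).hom.toAlgebra
  haveI : Module.Flat (S.presheaf.stalk (f x)) (I.subscheme.presheaf.stalk y) := Flat.stalkMap (j ≫ f) y
  have hsurj : Function.Surjective (j.stalkMap y).hom := j.stalkMap_surjective y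
  have hcomp : ((j ≫ f).stalkMap y).hom = (j.stalkMap y).hom.comp (f.stalkMap x).hom := by
    rw [Scheme.Hom.stalkMap_comp]; rfl
  let σ : X.presheaf.stalk x →ₐ[S.presheaf.stalk (f x)] I.subscheme.presheaf.stalk y :=
    ⟨(j.stalkMap y).hom, fun a => (RingHom.congr_fun hcomp a).symm⟩
  haveI : Module.Flat (S.presheaf.stalk (f x)) (X.presheaf.stalk x ⧸ Ideal.span {u}) :=
    Module.Flat.of_linearEquiv ((Ideal.quotientEquivAlgOfEq _ hker.symm).trans
      (Ideal.quotientKerAlgEquivOfSurjective (f := σ) hsurj)).toLinearEquiv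
  have hum : u ∈ maximalIdeal (X.presheaf.stalk x) :=
    le_maximalIdeal (RingHom.ker_ne_top _) (hker.symm ▸ Ideal.mem_span_singleton_self u)
  let M' := (maximalIdeal (S.presheaf.stalk ((j ≫ f) y))).map ((j ≫ f).stalkMap y).hom
  refine le_depth_of_fibre_quot hreg hum ((e'.toRingHom.comp (Ideal.Quotient.mk M')).comp (j.stalkMap y).hom)
    ((e'.surjective.comp Ideal.Quotient.mk_surjective).comp hsurj) ?_ e r hd
  rw [← RingHom.comap_ker, RingHom.ker_equiv_comp, Ideal.mk_ker]
  show Ideal.comap (j.stalkMap y).hom ((maximalIdeal (S.presheaf.stalk (f x))).map ((j ≫ f).stalkMap y).hom) = _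
  rw [hcomp, ← Ideal.map_map, Ideal.comap_map_of_surjective' _ hsurj, hker, sup_comm]
  rfl

omit [IsLocallyNoetherian X] [IsLocallyNoetherian S] in
/-- Closed points of the fibres of a closed subscheme are closed in the fibres of the ambient scheme. -/
theorem isClosed_asFiber_comp {X' : Scheme.{u}} (j : X' ⟶ X) [IsClosedImmersion j] (y : X')
    (hy : IsClosed ({(j ≫ f).asFiber y} : Set ((j ≫ f).fiber ((j ≫ f) y)))) :
    IsClosed ({f.asFiber (j y)} : Set (f.fiber (f (j y)))) := by
  refine closure_subset_iff_isClosed.1 fun w hw => ?_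
  have hs' : j y ⤳ f.fiberι (f (j y)) w := by
    have := (specializes_iff_mem_closure.2 hw).map (f.fiberι (f (j y))).continuous
    rwa [f.fiberι_asFiber] at this
  obtain ⟨z, hz⟩ := hs'.mem_closed j.isClosedEmbedding.isClosed_range ⟨y, rfl⟩
  have hfw : f (f.fiberι (f (j y)) w) = f (j y) := (Set.ext_iff.1 (f.range_fiberι _) _).1 ⟨w, rfl⟩
  have hfz : (j ≫ f) z = (j ≫ f) y := by rw [Scheme.Hom.comp_apply, Scheme.Hom.comp_apply, hz, hfw]
  obtain ⟨z', hz'⟩ : z ∈ Set.range ((j ≫ f).fiberι ((j ≫ f) y)) := by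
    rw [(j ≫ f).range_fiberι]; exact hfz
  have h1 : y ⤳ z := j.isClosedEmbedding.isInducing.specializes_iff.1 (hz.symm ▸ hs')
  have h2 : (j ≫ f).asFiber y ⤳ z' := ((j ≫ f).fiberι _).isEmbedding.isInducing.specializes_iff.1 (by
    rw [(j ≫ f).fiberι_asFiber, hz']; exact h1)
  have h3 : z' = (j ≫ f).asFiber y := h2.mem_closed hy rfl
  refine (f.fiberι _).isEmbedding.injective ?_
  rw [f.fiberι_asFiber, ← hz, ← hz', h3, (j ≫ f).fiberι_asFiber]

end Groth.Agent.ParaFlatLib
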